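import Cfsg.Agent.H316.VZ.MFive
import Cfsg.Agent.H225.AxB
import Cfsg.Agent.H316.VZ.MThree
import Cfsg.Agent.H493.NB.BabyThree
import Cfsg.Agent.S1698
import Cfsg.Agent.S1701
import Cfsg.Agent.FastGrp
import Cfsg.Agent.Prune
set_option linter.all false
prune_inst 0x7f00000000000000000000000000000000000000000000000000000000000000000000000000000000000000000000000000000000000000000000000000000000000000000000000000000000000000003fffffffffffffffffffffffffffbeffbdffffffff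
open scoped Cfsg.Agent.FastGrp

-- part: H316/VZ/Heir
section
/-!
# Heredity of characteristic `p` to `C(x) / ⟨x⟩` (helper316)

* `constrained_of_pprime` : `C_D(O_p(D)) ≤ O_p(D)` if no `p'`-element `≠ 1` centralizes a normal `p`-subgroup `R`;
* `heir` : `C_G(y)` of characteristic `p`, `x` of order `p` commuting with `y`, `ψ : C_G(x) → F` onto with kernel `⟨x⟩`: the
  centralizer of `ψ y` in `F` is of characteristic `p`.
-/

set_option autoImplicit false

namespace Cfsg.Agent.H316.VZ.Heir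

open Subgroup Cfsg Cfsg.Agent.Lib

universe u v

theorem constrained_of_pprime {D : Type u} [Group D] [Finite D] {p : ℕ} [hp : Fact p.Prime] {R : Subgroup D}
    [hRn : R.Normal] (hR : IsPGroup p R)
    (h : ∀ d : D, (orderOf d).Coprime p → (∀ r ∈ R, r * d = d * r) → d = 1) :
    centralizer (pCore p D : Set D) ≤ pCore p D := by
  have hn : (pCore p D).Normal := Cores.pCore_normal p
  refine Cores.le_pCore inferInstance ?_
  rintro ⟨d, hd⟩
  obtain ⟨k, m, hm, he⟩ := Nat.exists_eq_pow_mul_and_not_dvd (orderOf_pos d).ne' p hp.out.ne_one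
  refine ⟨k, Subtype.ext ?_⟩
  show d ^ p ^ k = 1
  refine h _ ?_ fun r hr => ?_
  · rw [orderOf_pow_of_dvd (pow_ne_zero _ hp.out.ne_zero) (he ▸ Dvd.intro _ rfl), he,
      Nat.mul_div_cancel_left _ (pow_pos hp.out.pos _)]
    exact ((Nat.Prime.coprime_iff_not_dvd hp.out).2 hm).symm
  · have h1 : r * d = d * r := mem_centralizer_iff.1 hd r (Cores.le_pCore hRn hR hr)
    exact ((show Commute r d from h1).pow_right (p ^ k)).eq

/-- a `p'`-element commuting with `x` and commuting with `a` modulo `⟨x⟩` commutes with `a` -/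
theorem comm_of_mod {G : Type u} [Group G] {p : ℕ} {x c a : G} (hx : orderOf x = p)
    (hc : (orderOf c).Coprime p) (hcx : c * x = x * c) (hca : c * a * c⁻¹ * a⁻¹ ∈ zpowers x) : c * a = a * c := by
  obtain ⟨i, hi⟩ := mem_zpowers_iff.1 hca
  have hcxi : Commute c (x ^ i) := (show Commute c x from hcx).zpow_right i
  have h1 : c * a * c⁻¹ = x ^ i * a := by rw [hi]; group
  have key : ∀ n : ℕ, c ^ n * a * (c ^ n)⁻¹ = (x ^ i) ^ n * a := by
    intro n
    induction n with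
    | zero => simp
    | succ n ih =>
      calc c ^ (n + 1) * a * (c ^ (n + 1))⁻¹ = c * (c ^ n * a * (c ^ n)⁻¹) * c⁻¹ := by rw [pow_succ']; group
        _ = c * (x ^ i) ^ n * a * c⁻¹ := by rw [ih]; group
        _ = (x ^ i) ^ n * (c * a * c⁻¹) := by rw [(hcxi.pow_right n).eq]; group
        _ = (x ^ i) ^ (n + 1) * a := by rw [h1, pow_succ]; group
  have h2 := key (orderOf c)
  rw [pow_orderOf_eq_one, one_mul, inv_one, mul_one] at h2
  have h3 : (x ^ i) ^ orderOf c = 1 := right_eq_mul.1 h2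
  have h4 : (x ^ i) ^ p = 1 := by
    rw [← zpow_natCast, ← zpow_mul, mul_comm, zpow_mul, zpow_natCast, ← hx, pow_orderOf_eq_one, one_zpow]
  have h5 : (x ^ i) ^ Nat.gcd (orderOf c) p = 1 := pow_gcd_eq_one.2 ⟨h3, h4⟩
  rw [hc, pow_one] at h5
  rw [h5, one_mul, mul_inv_eq_iff_eq_mul] at h1
  exact h1

variable {G : Type u} [Group G] [Finite G] {p : ℕ} [hp : Fact p.Prime]

/-- **Heredity.** -/
theorem heir {x y : G} (hx : orderOf x = p) (hxy : y * x = x * y)
    (hC : centralizer (pCore p ↥(centralizer ({y} : Set G)) : Set ↥(centralizer ({y} : Set G))) ≤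
      pCore p ↥(centralizer ({y} : Set G)))
    {F : Type v} [Group F] [Finite F] (ψ : ↥(centralizer ({x} : Set G)) →* F) (hψ : Function.Surjective ψ)
    (hψk : ∀ c : ↥(centralizer ({x} : Set G)), ψ c = 1 ↔ (c : G) ∈ zpowers x) :
    centralizer (pCore p ↥(centralizer ({ψ ⟨y, mem_centralizer_singleton_iff.2 hxy⟩} : Set F)) :
      Set ↥(centralizer ({ψ ⟨y, mem_centralizer_singleton_iff.2 hxy⟩} : Set F))) ≤
      pCore p ↥(centralizer ({ψ ⟨y, mem_centralizer_singleton_iff.2 hxy⟩} : Set F)) := by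
  set y' : ↥(centralizer ({x} : Set G)) := ⟨y, mem_centralizer_singleton_iff.2 hxy⟩ with hy'
  set E : Subgroup F := centralizer ({ψ y'} : Set F) with hE
  -- the `p`-group `V = O_p(C(y))`
  obtain ⟨V, hV⟩ : ∃ V : Subgroup G, V = (pCore p ↥(centralizer ({y} : Set G))).map
    (centralizer ({y} : Set G)).subtype := ⟨_, rfl⟩
  have hVp : IsPGroup p ↥V := by rw [hV]; exact (Cores.pCore_isPGroup p).map _
  have hVy : ∀ v ∈ V, v * y = y * v := by
    intro v hv
    rw [hV] at hv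
    obtain ⟨a, -, rfl⟩ := hv
    exact mem_centralizer_singleton_iff.1 a.2
  have hPn : (pCore p ↥(centralizer ({y} : Set G))).Normal := Cores.pCore_normal p
  have hVn : ∀ c : G, c * y = y * c → ∀ v ∈ V, c * v * c⁻¹ ∈ V := by
    intro c hc v hv
    rw [hV] at hv ⊢
    obtain ⟨a, ha, rfl⟩ := hv
    exact ⟨(⟨c, mem_centralizer_singleton_iff.2 hc⟩ * a * ⟨c, mem_centralizer_singleton_iff.2 hc⟩⁻¹ :),
      hPn.conj_mem a ha _, rfl⟩
  have hVc : ∀ c : G, c * y = y * c → (∀ v ∈ V, v * c = c * v) → c ∈ V := by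
    intro c hc h
    rw [hV]
    refine ⟨⟨c, mem_centralizer_singleton_iff.2 hc⟩, hC (mem_centralizer_iff.2 fun a ha => Subtype.ext ?_), rfl⟩
    exact h a (by rw [hV]; exact mem_map_of_mem _ ha)
  -- `E₀ = ψ(C(x) ∩ C(y))`
  obtain ⟨E₀, hE₀⟩ : ∃ E₀ : Subgroup ↥E, E₀ = ((centralizer ({y'} : Set ↥(centralizer ({x} : Set G)))).map ψ).subgroupOf E :=
    ⟨_, rfl⟩
  have hmE₀ : ∀ e : ↥E, e ∈ E₀ ↔ ∃ c : ↥(centralizer ({x} : Set G)), (c : G) * y = y * c ∧ ψ c = e := by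
    intro e
    rw [hE₀, mem_subgroupOf, mem_map]
    constructor
    · rintro ⟨c, hc, he⟩
      exact ⟨c, congrArg Subtype.val (mem_centralizer_singleton_iff.1 hc), he⟩
    · rintro ⟨c, hc, he⟩
      exact ⟨c, mem_centralizer_singleton_iff.2 (Subtype.ext hc), he⟩
  -- elements of `C(x)` with image in `E`
  have hcy : ∀ c : ↥(centralizer ({x} : Set G)), ψ c ∈ E → (c : G) * y * (c : G)⁻¹ * y⁻¹ ∈ zpowers x := by
    intro c hc
    have h1 : ψ (c * y' * c⁻¹ * y'⁻¹) = 1 := by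
      rw [map_mul, map_mul, map_mul, map_inv, map_inv, mem_centralizer_singleton_iff.1 hc]
      group
    exact (hψk _).1 h1
  have hE₀n : E₀.Normal := by
    constructor
    intro e he g
    obtain ⟨d, hd, hde⟩ := (hmE₀ e).1 he
    obtain ⟨c, hc⟩ := hψ g
    obtain ⟨i, hi⟩ := mem_zpowers_iff.1 (hcy c (by rw [hc]; exact g.2))
    refine (hmE₀ _).2 ⟨c * d * c⁻¹, ?_, by rw [map_mul, map_mul, map_inv, hc, hde]; rfl⟩
    -- `c⁻¹ y c = y x^{-i}`
    have hxi : ∀ a : ↥(centralizer ({x} : Set G)), (a : G) * x ^ i = x ^ i * a := fun a =>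
      ((show Commute (a : G) x from mem_centralizer_singleton_iff.1 a.2).zpow_right i).eq
    have h1 : (c : G) * y * (c : G)⁻¹ = x ^ i * y := by rw [hi]; group
    have h2 : (c : G)⁻¹ * y * c = x ^ (-i) * y := by
      have h3 : y = x ^ (-i) * (c * y * (c : G)⁻¹) := by rw [h1, zpow_neg]; group
      have h4 : (c : G)⁻¹ * x ^ (-i) = x ^ (-i) * (c : G)⁻¹ := by
        have := (show Commute ((c : ↥(centralizer ({x} : Set G))) : G) x from
          mem_centralizer_singleton_iff.1 c.2).inv_left.zpow_right (-i)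
        exact this.eq
      calc (c : G)⁻¹ * y * c = (c : G)⁻¹ * (x ^ (-i) * (c * y * (c : G)⁻¹)) * c := by rw [← h3]
        _ = ((c : G)⁻¹ * x ^ (-i)) * c * y := by group
        _ = x ^ (-i) * y := by rw [h4]; group
    have hdxi : (d : G) * x ^ (-i) = x ^ (-i) * d :=
      ((show Commute (d : G) x from mem_centralizer_singleton_iff.1 d.2).zpow_right (-i)).eq
    show (c : G) * d * (c : G)⁻¹ * y = y * (c * d * (c : G)⁻¹)
    calc (c : G) * d * (c : G)⁻¹ * y = c * d * ((c : G)⁻¹ * y * c) * (c : G)⁻¹ := by group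
      _ = c * (d * x ^ (-i)) * y * (c : G)⁻¹ := by rw [h2]; group
      _ = c * x ^ (-i) * (d * y) * (c : G)⁻¹ := by rw [hdxi]; group
      _ = c * (x ^ (-i) * y) * d * (c : G)⁻¹ := by rw [hd]; group
      _ = y * (c * d * (c : G)⁻¹) := by rw [← h2]; group
  have hOn : (pCore p ↥E₀).Characteristic := Cores.pCore_characteristic p
  have hOE : (pCore p ↥E₀).map E₀.subtype ≤ pCore p ↥E :=
    Cores.le_pCore inferInstance ((Cores.pCore_isPGroup p).map _)
  -- `ψ v ∈ O_p(E)` for `v ∈ C_V(x)`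
  have hvE : ∀ v : ↥(centralizer ({x} : Set G)), (v : G) ∈ V → ∀ h : ψ v ∈ E, (⟨ψ v, h⟩ : ↥E) ∈ pCore p ↥E := by
    intro v hv hvE
    obtain ⟨V₀, hV₀⟩ : ∃ V₀ : Subgroup ↥E₀, V₀ = (((V.subgroupOf (centralizer ({x} : Set G))).map ψ).subgroupOf
      E).subgroupOf E₀ := ⟨_, rfl⟩
    have hm : ∀ e : ↥E₀, e ∈ V₀ ↔ ∃ c : ↥(centralizer ({x} : Set G)), (c : G) ∈ V ∧ ψ c = ((e : ↥E) : F) := by
      intro e
      rw [hV₀, mem_subgroupOf, mem_subgroupOf, mem_map]
      rfl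
    have hV₀n : V₀.Normal := by
      constructor
      intro e he g
      obtain ⟨a, ha, hae⟩ := (hm e).1 he
      obtain ⟨c, hc, hcg⟩ := (hmE₀ g).1 g.2
      refine (hm _).2 ⟨c * a * c⁻¹, hVn c hc a ha, ?_⟩
      rw [map_mul, map_mul, map_inv, hcg, hae]
      rfl
    have hV₀p : IsPGroup p ↥V₀ := by
      intro e
      obtain ⟨a, ha, hae⟩ := (hm e).1 e.2
      obtain ⟨k, hk⟩ := hVp ⟨a, ha⟩
      refine ⟨k, Subtype.ext (Subtype.ext (Subtype.ext ?_))⟩
      have h0 : (a : G) ^ p ^ k = 1 := congrArg (fun b : ↥V => (b : G)) hk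
      have h1 : a ^ p ^ k = 1 := Subtype.ext h0
      show (((e : ↥E₀) : ↥E) : F) ^ p ^ k = 1
      rw [← hae, ← map_pow, h1, map_one]
    have h1 : V₀ ≤ pCore p ↥E₀ := Cores.le_pCore hV₀n hV₀p
    have h2 : (⟨ψ v, hvE⟩ : ↥E) ∈ E₀ := (hmE₀ _).2 ⟨v, hVy v hv, rfl⟩
    exact hOE (mem_map_of_mem E₀.subtype (h1 ((hm ⟨⟨ψ v, hvE⟩, h2⟩).2 ⟨v, hv, rfl⟩)))
  have hOn' : (pCore p ↥E).Normal := Cores.pCore_normal p
  refine constrained_of_pprime (R := pCore p ↥E) (Cores.pCore_isPGroup p) fun d hd hdc => ?_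
  obtain ⟨c, hc⟩ := hψ d
  obtain ⟨k, m, hm, he⟩ := Nat.exists_eq_pow_mul_and_not_dvd (orderOf_pos c).ne' p hp.out.ne_one
  -- `c₁ = c ^ p ^ k`
  have ho : (orderOf (((c ^ p ^ k : ↥(centralizer ({x} : Set G)))) : G)).Coprime p := by
    rw [Subgroup.orderOf_coe, orderOf_pow_of_dvd (pow_ne_zero _ hp.out.ne_zero) (he ▸ Dvd.intro _ rfl), he,
      Nat.mul_div_cancel_left _ (pow_pos hp.out.pos _)]
    exact ((Nat.Prime.coprime_iff_not_dvd hp.out).2 hm).symm
  have hψ1 : ψ (c ^ p ^ k) = ((d ^ p ^ k : ↥E) : F) := by rw [map_pow, hc]; rfl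
  have hx1 : ((c ^ p ^ k : ↥(centralizer ({x} : Set G))) : G) * x = x * (c ^ p ^ k : ↥(centralizer ({x} : Set G))) :=
    mem_centralizer_singleton_iff.1 (c ^ p ^ k).2
  have hy1 : ((c ^ p ^ k : ↥(centralizer ({x} : Set G))) : G) * y = y * (c ^ p ^ k : ↥(centralizer ({x} : Set G))) :=
    comm_of_mod hx ho hx1 (hcy _ (by rw [hψ1]; exact (d ^ p ^ k).2))
  have hv1 : ∀ v ∈ V, v * x = x * v →
      ((c ^ p ^ k : ↥(centralizer ({x} : Set G))) : G) * v = v * (c ^ p ^ k : ↥(centralizer ({x} : Set G))) := by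
    intro v hv hvx
    refine comm_of_mod hx ho hx1 ?_
    let v' : ↥(centralizer ({x} : Set G)) := ⟨v, mem_centralizer_singleton_iff.2 hvx⟩
    have h1 : ψ v' ∈ E := by
      rw [hE, mem_centralizer_singleton_iff, ← map_mul, ← map_mul]
      congr 1
      exact Subtype.ext (hVy v hv)
    have h2 := hdc _ (hvE v' hv h1)
    have h3 : ψ v' * ψ (c ^ p ^ k) = ψ (c ^ p ^ k) * ψ v' := by
      rw [hψ1]
      have h4 := ((show Commute (⟨ψ v', h1⟩ : ↥E) d from h2).pow_right (p ^ k)).eq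
      exact congrArg Subtype.val h4
    have h4 : ψ (c ^ p ^ k * v' * (c ^ p ^ k)⁻¹ * v'⁻¹) = 1 := by
      rw [map_mul, map_mul, map_mul, map_inv, map_inv, ← h3]
      group
    exact (hψk _).1 h4
  have hcn : ∀ a : G, a * y = y * a → a ∈ normalizer (V : Set G) := by
    intro a ha
    rw [mem_normalizer_iff]
    intro v
    refine ⟨fun hv => hVn a ha v hv, fun hv => ?_⟩
    have h1 := hVn a⁻¹ (show Commute a y from ha).inv_left _ hv
    have h2 : a⁻¹ * (a * v * a⁻¹) * a⁻¹⁻¹ = v := by group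
    rwa [h2] at h1
  have hab := H225.AxB.axb (D := zpowers x) hVp (zpowers_le.2 (hcn x hxy.symm)) (fun d hd => ⟨1, by
      obtain ⟨i, rfl⟩ := mem_zpowers_iff.1 hd
      have h4 : (x ^ i) ^ p = 1 := by
        rw [← zpow_natCast, ← zpow_mul, mul_comm, zpow_mul, zpow_natCast, ← hx, pow_orderOf_eq_one, one_zpow]
      rw [pow_one, h4]
      exact one_mem _⟩)
    (y := ((c ^ p ^ k : ↥(centralizer ({x} : Set G))) : G)) (hcn _ hy1) ho (fun d hd => by
      obtain ⟨i, rfl⟩ := mem_zpowers_iff.1 hd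
      have h4 := ((show Commute ((c ^ p ^ k : ↥(centralizer ({x} : Set G))) : G) x from hx1).zpow_right i).eq
      rw [← h4]
      have h5 : ((c ^ p ^ k : ↥(centralizer ({x} : Set G))) : G) * x ^ i * (x ^ i)⁻¹ *
          ((c ^ p ^ k : ↥(centralizer ({x} : Set G))) : G)⁻¹ = 1 := by group
      rw [h5]
      exact one_mem _) (fun v hv h => hv1 v hv (h x (mem_zpowers x)).symm)
  have h6 := hVc _ hy1 (mem_centralizer_iff.1 hab)
  obtain ⟨j, hj⟩ := IsPGroup.iff_orderOf.1 hVp ⟨_, h6⟩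
  rw [Subgroup.orderOf_mk] at hj
  have h7 : ((c ^ p ^ k : ↥(centralizer ({x} : Set G))) : G) = 1 := by
    rw [← orderOf_eq_one_iff]
    rw [hj] at ho ⊢
    have h8 : (p ^ j).Coprime (p ^ j) := ho.pow_right j
    exact (Nat.coprime_self _).1 h8
  have h8 : d ^ p ^ k = 1 := by
    apply Subtype.ext
    rw [← hψ1]
    have h9 : c ^ p ^ k = 1 := Subtype.ext h7
    rw [h9, map_one]
    rfl
  have h9 : orderOf d ∣ p ^ k := orderOf_dvd_of_pow_eq_one h8
  exact orderOf_eq_one_iff.1 (Nat.Coprime.eq_one_of_dvd (hd.pow_right k) h9)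

end Cfsg.Agent.H316.VZ.Heir
end

-- part: H316/VZ/HeirRows
section
/-!
# S4555/S4559: `Fi24'`, `p = 3`, and `HN`, `p = 5` (helper316)

`Fi24' ≅ C_M(x)/⟨x⟩`, `x` of class 3A, and `HN ≅ C_M(x)/⟨x⟩`, `x` of class 5A; `y` of class 3B (5B) commuting with `x`: the
centralizer of `y` in `M` is of characteristic `p`, so is the centralizer of the image of `y`.
-/

set_option autoImplicit false
set_option maxRecDepth 100000

namespace Cfsg.Agent.H316.VZ.HeirRows

open Cfsg Subgroup Cfsg.Agent.Lib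
open Cfsg.Agent.LThreeMB (fr XX Zx mk_eq_one self KChart.Cent KChart.pi KChart.chart)
open Cfsg.Agent.MonsterU.Ch
open Cfsg.Agent.MonsterU.Lam2 (L2)
open Cfsg.Spor (Co1)

universe u v

/-- **`VOrdP p` for `C(x)/⟨x⟩`.** -/
theorem vOrdP_quot {G : Type u} [Group G] [Finite G] {p : ℕ} [hp : Fact p.Prime] {x y : G} (hx : orderOf x = p)
    (hy : orderOf y = p) (hxy : y * x = x * y) (hyx : y ∉ zpowers x)
    (hC : centralizer (pCore p ↥(centralizer ({y} : Set G)) : Set ↥(centralizer ({y} : Set G))) ≤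
      pCore p ↥(centralizer ({y} : Set G)))
    {F : Type v} [Group F] (e : XX x ≃* F) (hNB : H7.NBp.NB p F) : H620.PNorm.VOrdP p F := by
  have hF : Finite F := Finite.of_equiv _ e.toEquiv
  have hψk : ∀ c : ↥(centralizer ({x} : Set G)), (e.toMonoidHom.comp (QuotientGroup.mk' (Zx x))) c = 1 ↔
      (c : G) ∈ zpowers x := by
    intro c
    show e (QuotientGroup.mk c) = 1 ↔ _
    rw [e.map_eq_one_iff]
    exact mk_eq_one (x := x) (g := (c : G)) (mem_centralizer_singleton_iff.1 c.2)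
  have ho : orderOf ((e.toMonoidHom.comp (QuotientGroup.mk' (Zx x))) ⟨y, mem_centralizer_singleton_iff.2 hxy⟩) = p := by
    refine orderOf_eq_prime ?_ ?_
    · rw [← map_pow]
      have h1 : (⟨y, mem_centralizer_singleton_iff.2 hxy⟩ : ↥(centralizer ({x} : Set G))) ^ p = 1 := by
        apply Subtype.ext
        show y ^ p = 1
        rw [← hy, pow_orderOf_eq_one]
      rw [h1, map_one]
    · intro h1
      exact hyx ((hψk _).1 h1)
  refine vOrdP_of_oneB hNB ho fun M hM => oneB_of_constrained hM ?_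
  exact Heir.heir hx hxy hC _ (e.surjective.comp (QuotientGroup.mk'_surjective _)) hψk

section chart

variable {G : Type u} [Group G] {Q : Subgroup G} {z : G} {eta : G → L2}
  {pi : Subgroup.centralizer ({z} : Set G) →* Co1}

/-- a commuting lift of order `p` -/
theorem exists_comm_lift (h : Chart Q z eta pi) {p : ℕ} (hp : p.Prime) (ho : Odd p)
    {x : Subgroup.centralizer ({z} : Set G)} (hx : orderOf x = p) {s : Co1} (hs : orderOf s = p)
    (hsx : s * pi x = pi x * s) : ∃ y : Subgroup.centralizer ({z} : Set G), y * x = x * y ∧ orderOf y = p ∧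
      pi y = s ^ (p + 1) ^ 2 := by
  have : Fact p.Prime := ⟨hp⟩
  obtain ⟨c, hc, hcs⟩ := MFive.exists_lift h hp ho (by rw [← hx, pow_orderOf_eq_one]) hsx
  have h4 : 4 ∣ (p + 1) ^ 2 := by
    obtain ⟨m, hm⟩ := ho
    exact ⟨(m + 1) ^ 2, by rw [hm]; ring⟩
  obtain ⟨n, hn⟩ := h4
  have hs1 : s ^ (p + 1) ^ 2 = s := by
    have h1 : s ^ (p + 1) = s := by rw [pow_succ, ← hs, pow_orderOf_eq_one, one_mul]
    rw [pow_two, pow_mul, h1, h1]
  refine ⟨c ^ (p + 1) ^ 2, ((show Commute c x from hc).pow_left _).eq, orderOf_eq_prime ?_ ?_, by rw [map_pow, hcs]⟩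
  · have h1 : ((c ^ p : Subgroup.centralizer ({z} : Set G)) : G) ∈ Q := by
      refine (h.pi_eq_one _).1 ?_
      rw [map_pow, hcs, ← hs, pow_orderOf_eq_one]
    have h2 : (c ^ p) ^ 4 = 1 := Subtype.ext (MFive.pow_four h h1)
    rw [← pow_mul, mul_comm, pow_mul, hn, pow_mul, h2, one_pow]
  · intro h1
    have h2 : pi (c ^ (p + 1) ^ 2) = s := by rw [map_pow, hcs, hs1]
    rw [h1, map_one] at h2
    rw [← h2, orderOf_one] at hs
    exact hp.one_lt.ne hs

/-- `y ∉ ⟨x⟩` from the fixed ranks -/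
theorem not_mem_zpowers {x y : Subgroup.centralizer ({z} : Set G)} (hx : fr (pi x) ≠ 1) (hy : fr (pi y) = 1) :
    (y : G) ∉ zpowers (x : G) := by
  intro h1
  obtain ⟨i, hi⟩ := mem_zpowers_iff.1 h1
  have h2 : pi y = pi x ^ i := by
    rw [← map_zpow]
    congr 1
    exact Subtype.ext hi.symm
  apply hx
  have h3 := (Nat.card_eq_one_iff_unique.1 hy).1
  have h4 : ∀ v : L2, pi x • v = v → pi y • v = v := by
    intro v hv
    rw [h2]
    exact (MulAction.mem_stabilizer_iff).1 (Subgroup.zpow_mem (MulAction.stabilizer Co1 v)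
      (MulAction.mem_stabilizer_iff.2 hv) i)
  refine Nat.card_eq_one_iff_unique.2 ⟨⟨fun a b => Subtype.ext ?_⟩, ⟨⟨0, smul_zero _⟩⟩⟩
  have h5 : (⟨a, h4 a a.2⟩ : {v : L2 // pi y • v = v}) = ⟨b, h4 b b.2⟩ := Subsingleton.elim _ _
  exact congrArg (fun v : {v : L2 // pi y • v = v} => (v : L2)) h5

end chart

end Cfsg.Agent.H316.VZ.HeirRows

namespace Cfsg.Agent.H316.VZ.HeirRows

open Cfsg Cfsg.Agent.MonsterX Cfsg.Agent.MonsterX.InstData Cfsg.Agent.MonsterX.MainPack Cfsg.Agent.MonsterU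
open Cfsg.Agent.MonsterP Cfsg.Agent.MonsterN Cfsg.Agent.PreUniq Cfsg.Agent.PreUniqB
open Cfsg.Agent.LThreeMB (KChart.Cent KChart.pi KChart.chart CoOne fr XX)
open Cfsg.Agent.MonsterX.MainBasic Cfsg.Agent.MonsterX.MainSimple Cfsg.Agent.MonsterX.Model
open Cfsg.Spor (Co1)
open Subgroup (centralizer mem_centralizer_singleton_iff)

universe u

/-- the order of the image in `Co1` -/
theorem orderOf_mk {g : Co0} {p : ℕ} [Fact p.Prime] (hg : g ^ p = 1)
    (hf : fr (QuotientGroup.mk g : Co1) ≠ 2 ^ 24) : orderOf (QuotientGroup.mk g : Co1) = p := by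
  refine orderOf_eq_prime ?_ ?_
  · rw [← QuotientGroup.mk_pow, hg]
    rfl
  · intro h
    apply hf
    rw [h, fr, ← Cfsg.Agent.MonsterU.Lam2.card_L2]
    exact Nat.card_congr (Equiv.subtypeUnivEquiv fun v => one_smul _ v)

/-- a conjugate -/
theorem exists_conj {s a b : Co1} {g : Co1} (hg : g * s * g⁻¹ = a) (hab : b * a = a * b) :
    (g⁻¹ * b * g⁻¹⁻¹) * s = s * (g⁻¹ * b * g⁻¹⁻¹) := by
  have h1 : s = g⁻¹ * a * g := by rw [← hg]; group
  rw [h1]
  calc g⁻¹ * b * g⁻¹⁻¹ * (g⁻¹ * a * g) = g⁻¹ * (b * a) * g := by group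
    _ = g⁻¹ * (a * b) * g := by rw [hab]
    _ = _ := by group

/-- **S4555/S4559: `Fi24'`, `p = 3`**, in the model. -/
theorem fi24_model (hNB : H7.NBp.NB 3 Spor.Fi24') : H620.PNorm.VOrdP 3 Spor.Fi24' := by
  have hp3 : Fact (Nat.Prime 3) := ⟨Nat.prime_three⟩
  have hfin : Finite ↥InstData.M.G := MFive.Row.finite_model
  have hsim : IsSimpleGroup ↥InstData.M.G := MFive.Row.simple_model
  have I : CoOne := LThreeMB.CoOneFin.coOne
  have h := KChart.chart KDone.lft MFive.Row.hc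
  obtain ⟨s, hs, hfs, ht, h4⟩ := I.psu
  obtain ⟨g, hg⟩ := LThreeCo1.Ranks.conj_rep LThreeCo1.Ranks.uniq12 hs hfs
  obtain ⟨x, hx, rfl⟩ := LThreeMB.KPair.exists_order_three h hs
  -- `s₀` of fixed rank 0 commuting with `s`
  obtain ⟨s₀, hs₀⟩ : ∃ s₀ : Co1, s₀ = g⁻¹ * QuotientGroup.mk LThreeCo1.Class.c0 * g⁻¹⁻¹ := ⟨_, rfl⟩
  have hf₀ : fr s₀ = 1 := by rw [hs₀, LThreeMB.fr_conj, LThreeCo1.Ranks.fr_c0]
  have ho₀ : orderOf s₀ = 3 := by
    rw [hs₀]
    refine (MulEquiv.orderOf_eq (MulAut.conj g⁻¹) _).trans (orderOf_mk (p := 3) ?_ ?_)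
    · rw [← LThreeCo1.Class.order_c0, pow_orderOf_eq_one]
    · rw [LThreeCo1.Ranks.fr_c0]
      norm_num
  have hcm : s₀ * KChart.pi MFive.Row.hc x = KChart.pi MFive.Row.hc x * s₀ := by
    rw [hs₀]
    refine exists_conj hg ?_
    have h1 : LThreeCo1.Class.c0 * LThreeCo1.Class.c12 = LThreeCo1.Class.c12 * LThreeCo1.Class.c0 :=
      LThreeCo1.Class.hA.ph_comm _ _
    rw [← QuotientGroup.mk_mul, ← QuotientGroup.mk_mul, h1]
  obtain ⟨y, hyx, hy, hys⟩ := exists_comm_lift h Nat.prime_three (by decide) hx ho₀ hcm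
  have hs1 : s₀ ^ (3 + 1) ^ 2 = s₀ := by
    have h1 : s₀ ^ (3 + 1) = s₀ := by rw [pow_succ, ← ho₀, pow_orderOf_eq_one, one_mul]
    rw [pow_two, pow_mul, h1, h1]
  rw [hs1] at hys
  have hfy : fr (KChart.pi MFive.Row.hc y) = 1 := by rw [hys, hf₀]
  obtain ⟨e⟩ := LThreeMB.iso_fi24 h hx hfs (by rw [hfs]; exact I.twelve) ht h4
  have htr := (LThreeMB.KPair.trNe KDone.lft MFive.Row.hc (LThreeMBTr.traceNe KDone.lft LThreeMBTr.TensK.tens))
  have hpr := (LThreeMB.KPair.hasPair KDone.lft MFive.Row.hc LThreeB.Row.second LThreeMB.COct.octPair)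
  have hC := MThree.constrained_zero KDone.lft MFive.Row.hc LThreeMB.CoOneFin.coOne htr hpr
    Cfsg.Agent.BpSpor.MThree.card_model hy hfy
  exact vOrdP_quot (x := (x : ↥InstData.M.G)) (y := (y : ↥InstData.M.G)) (by rw [Subgroup.orderOf_coe, hx])
    (by rw [Subgroup.orderOf_coe, hy]) (congrArg Subtype.val hyx)
    (not_mem_zpowers (by rw [hfs]; norm_num) hfy) hC e hNB

/-- **S4555/S4559: `Fi24'`, `p = 3`.** -/
theorem fi24_three {K : Type u} [Group K] (h : Spor.IsoFi24' K) (hNB : H7.NBp.NB 3 K) : H620.PNorm.VOrdP 3 K := by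
  have h3 : Fact (Nat.Prime 3) := ⟨Nat.prime_three⟩
  have hF : Finite Spor.Fi24' := Nat.finite_of_card_ne_zero (by rw [Cfsg.Agent.S1698.result.2]; norm_num)
  obtain ⟨e⟩ := h
  have hK : Finite K := Finite.of_equiv _ e.symm.toEquiv
  exact (fi24_model (H7.NBp.NB.iso e hNB)).mulEquiv e.symm

/-- **S4555/S4559: `HN`, `p = 5`**, in the model. -/
theorem hn_model (hNB : H7.NBp.NB 5 Spor.HN) : H620.PNorm.VOrdP 5 Spor.HN := by
  have hp5 : Fact (Nat.Prime 5) := ⟨Nat.prime_five⟩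
  have hfin : Finite ↥InstData.M.G := MFive.Row.finite_model
  have hsim : IsSimpleGroup ↥InstData.M.G := MFive.Row.simple_model
  have hJ : CpAutBFive.Closed.HJ := fun _ hs h => Cfsg.Agent.MFive.JTwo.isoJ2 hs h
  have h := KChart.chart KDone.lft Cfsg.Agent.MFive.Row.hc
  obtain ⟨y, k, hy, hfy, hk, hkk⟩ := BpSpor.M5.exists_k BpSpor.M5.hA
  have hJy := hJ _ (Cfsg.Agent.MFive.orderOf_pi h Nat.prime_five (by decide) hy) hfy
  have hD := BpSpor.M5.dvd_zero h BpSpor.M5.trNe (CpAutBFive.Closed.coFive hJ) CpAutBFive.Closed.hnEight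
    BpSpor.M5.hasPair (CoFive.Ranks.wclassOf _) CoFive.Sylow.exists_four hy hfy
  have hC := MFive.constrained h BpSpor.M5.trNe BpSpor.M5.hasPair (CoFive.Ranks.wclassOf _) hy hfy hJy hD hk hkk
  -- `pi y` is conjugate to `r0`
  have h0 : (CoFive.Class.r0 : Co0) ^ 5 = 1 := by rw [CoFive.Class.r0_eq]; exact CoFive.Class.hyp.five _
  have h8 : (CoFive.Class.r8 : Co0) ^ 5 = 1 := by rw [CoFive.Class.r8_eq]; exact CoFive.Class.hyp.five _
  have hc08 : CoFive.Class.r8 * CoFive.Class.r0 = CoFive.Class.r0 * CoFive.Class.r8 := by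
    rw [CoFive.Class.r0_eq, CoFive.Class.r8_eq]
    exact CoFive.Class.hyp.ph_comm _ _
  have ho0 : orderOf (QuotientGroup.mk CoFive.Class.r0 : Co1) = 5 := orderOf_mk h0 (by
    rw [CoFive.Ranks.fr_r0]; norm_num)
  have ho8 : orderOf (QuotientGroup.mk CoFive.Class.r8 : Co1) = 5 := orderOf_mk h8 (by
    rw [CoFive.Ranks.fr_r8]; norm_num)
  obtain ⟨g, hg⟩ := isConj_iff.1 (CoFive.Ranks.isConj_of_fr (Cfsg.Agent.MFive.orderOf_pi h Nat.prime_five (by decide) hy)
    ho0 (by rw [hfy, CoFive.Ranks.fr_r0]))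
  obtain ⟨s, hs⟩ : ∃ s : Co1, s = g⁻¹ * QuotientGroup.mk CoFive.Class.r8 * g⁻¹⁻¹ := ⟨_, rfl⟩
  have hfs : fr s = 2 ^ 8 := by rw [hs, LThreeMB.fr_conj, CoFive.Ranks.fr_r8]
  have hos : orderOf s = 5 := by rw [hs, ← ho8]; exact MulEquiv.orderOf_eq (MulAut.conj g⁻¹) _
  have hcm : s * KChart.pi MFive.Row.hc y = KChart.pi MFive.Row.hc y * s := by
    rw [hs]
    refine exists_conj hg ?_
    rw [← QuotientGroup.mk_mul, ← QuotientGroup.mk_mul, hc08]
  obtain ⟨x, hxy, hx, hxs⟩ := exists_comm_lift h Nat.prime_five (by decide) hy hos hcm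
  have hs1 : s ^ (5 + 1) ^ 2 = s := by
    have h1 : s ^ (5 + 1) = s := by rw [pow_succ, ← hos, pow_orderOf_eq_one, one_mul]
    rw [pow_two, pow_mul, h1, h1]
  rw [hs1] at hxs
  have hfx : fr (KChart.pi MFive.Row.hc x) = 2 ^ 8 := by rw [hxs, hfs]
  obtain ⟨e⟩ := CpAutBFive.Closed.hnEight x hx hfx
  exact vOrdP_quot (x := (x : ↥InstData.M.G)) (y := (y : ↥InstData.M.G)) (by rw [Subgroup.orderOf_coe, hx])
    (by rw [Subgroup.orderOf_coe, hy]) (congrArg Subtype.val hxy.symm)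
    (not_mem_zpowers (by rw [hfx]; norm_num) hfy) hC e hNB

/-- **S4555/S4559: `HN`, `p = 5`.** -/
theorem hn_five {K : Type u} [Group K] (h : Spor.IsoHN K) (hNB : H7.NBp.NB 5 K) : H620.PNorm.VOrdP 5 K := by
  have h5 : Fact (Nat.Prime 5) := ⟨Nat.prime_five⟩
  have hF : Finite Spor.HN := Nat.finite_of_card_ne_zero (by rw [Cfsg.Agent.S1701.result.2]; norm_num)
  obtain ⟨e⟩ := h
  have hK : Finite K := Finite.of_equiv _ e.symm.toEquiv
  exact (hn_model (H7.NBp.NB.iso e hNB)).mulEquiv e.symm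

end Cfsg.Agent.H316.VZ.HeirRows
end
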