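import Cfsg.Agent.S5003
import Cfsg.Agent.H316.VZ.MThree
import Cfsg.Agent.H316.VZ.MFive
import Cfsg.Agent.H316.VZ.HeirRows
import Cfsg.Agent.H316.VZ.BThree_m3
import Cfsg.Agent.Prune
set_option linter.all false
open scoped Cfsg.Agent.FastGrp

/-!
# S4555/S4559: rows of `M`, `B` (`p = 3, 5`), `Fi24'` (`p = 3`), `HN` (`p = 5`), with the second block of S5003 (helper316)
-/

set_option autoImplicit false

namespace Cfsg.Agent.H316.VZ.RowsFin

open Cfsg

universe u

/-- **A second `p`-block**, `p` odd, of a nonabelian finite simple group (S5003). -/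
theorem nb {p : ℕ} [Fact p.Prime] (hp : p ≠ 2) {K : Type*} [Group K] [Finite K] [IsSimpleGroup K]
    (hna : ¬ IsMulCommutative K) : H7.NBp.NB p K := fun M hM => Cfsg.Agent.S5003.result hna p hp M hM

/-- in a group isomorphic to a finite simple group `S` -/
theorem nb_iso {p : ℕ} [Fact p.Prime] (hp : p ≠ 2) {K : Type*} [Group K] {S : Type*} [Group S] (e : K ≃* S)
    (hs : IsSimpleGroup S) (hn : Nat.card S ≠ 0) (hp' : ¬ (Nat.card S).Prime) : H7.NBp.NB p K := by
  have hfin : Finite S := Nat.finite_of_card_ne_zero hn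
  have hK : Finite K := Finite.of_equiv _ e.symm.toEquiv
  refine H7.NBp.NB.iso e.symm (nb hp fun hc => hp' ?_)
  let _ : CommGroup S := { (inferInstance : Group S) with mul_comm := hc.is_comm.comm }
  exact IsSimpleGroup.prime_card

theorem nb_m {p : ℕ} [Fact p.Prime] (hp : p ≠ 2) {K : Type*} [Group K] (h : Spor.IsoM K) : H7.NBp.NB p K := by
  obtain ⟨e⟩ := h
  obtain ⟨e'⟩ := Cfsg.Agent.MonsterP.Equiv.equiv
  have hc := MonsterP.EquivOf.isM_model.2
  refine nb_iso hp (e.trans e') Cfsg.Agent.MFive.Row.simple_model (by rw [hc]; norm_num) ?_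
  rw [hc]
  norm_num

/-- **S4555/S4559: the Monster, `p = 3`.** -/
theorem m_3 {K : Type u} [Group K] (h : Spor.IsoM K) : H620.PNorm.VOrdP 3 K :=
  have : Fact (Nat.Prime 3) := ⟨Nat.prime_three⟩
  MThree.m_three h (nb_m (by norm_num) h)

/-- **S4555/S4559: the Monster, `p = 5`.** -/
theorem m_5 {K : Type u} [Group K] (h : Spor.IsoM K) : H620.PNorm.VOrdP 5 K :=
  have : Fact (Nat.Prime 5) := ⟨Nat.prime_five⟩
  VZ.MFive.m_five h (nb_m (by norm_num) h)

/-- **S4555/S4559: `Fi24'`, `p = 3`.** -/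
theorem fi24_3 {K : Type u} [Group K] (h : Spor.IsoFi24' K) : H620.PNorm.VOrdP 3 K := by
  have : Fact (Nat.Prime 3) := ⟨Nat.prime_three⟩
  refine HeirRows.fi24_three h ?_
  obtain ⟨e⟩ := h
  refine nb_iso (by norm_num) e Cfsg.Agent.S1698.result.1 (by rw [Cfsg.Agent.S1698.result.2]; norm_num) ?_
  rw [Cfsg.Agent.S1698.result.2]
  norm_num

/-- **S4555/S4559: `HN`, `p = 5`.** -/
theorem hn_5 {K : Type u} [Group K] (h : Spor.IsoHN K) : H620.PNorm.VOrdP 5 K := by
  have : Fact (Nat.Prime 5) := ⟨Nat.prime_five⟩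
  refine HeirRows.hn_five h ?_
  obtain ⟨e⟩ := h
  refine nb_iso (by norm_num) e Cfsg.Agent.S1701.result.1 (by rw [Cfsg.Agent.S1701.result.2]; norm_num) ?_
  rw [Cfsg.Agent.S1701.result.2]
  norm_num

theorem nb_b {p : ℕ} [Fact p.Prime] (hp : p ≠ 2) {K : Type*} [Group K] (h : Spor.IsoB K) : H7.NBp.NB p K := by
  obtain ⟨e⟩ := h
  have hB : IsB Spor.BabyMonster := Cfsg.Agent.S1704.result
  refine nb_iso hp e hB.1 (by rw [hB.2]; norm_num) ?_
  rw [hB.2]
  norm_num

/-- **S4555/S4559: the Baby Monster, `p = 3`.** -/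
theorem b_3 {K : Type u} [Group K] (h : Spor.IsoB K) : H620.PNorm.VOrdP 3 K :=
  have : Fact (Nat.Prime 3) := ⟨Nat.prime_three⟩
  VZ.BThree.b_three h (nb_b (by norm_num) h)

/-- **S4555/S4559: the Baby Monster, `p = 5`.** -/
theorem b_5 {K : Type u} [Group K] (h : Spor.IsoB K) : H620.PNorm.VOrdP 5 K :=
  have : Fact (Nat.Prime 5) := ⟨Nat.prime_five⟩
  H393.BF.b_five h (nb_b (by norm_num) h)

end Cfsg.Agent.H316.VZ.RowsFin
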